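import Groth.Agent.H13AlgSp.MonoPoint
import Groth.Agent.H13AlgSp.DecentCriteria
import Groth.Agent.H12AlgSp.QSPullback
import Groth.Agent.H8Props.FieldDimFibre
import Groth.Agent.H12AlgSp.FinPres
import Groth.Agent.H12AlgSp.LimitDescendAffine
import Groth.Prelude.Def_StCurv2
import Groth.Prelude.Def_EssDim
import Mathlib.RingTheory.AlgebraicIndependent.TranscendenceBasis
import Mathlib.RingTheory.AlgebraicIndependent.Transcendental

/-!
# Field points of algebraic spaces of bounded relative dimension over a field
-/

set_option autoImplicit false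
set_option linter.style.haveILetI false
set_option linter.unusedVariables false
set_option backward.isDefEq.respectTransparency false
universe u

open CategoryTheory CategoryTheory.Limits AlgebraicGeometry Opposite
open AlgSp

namespace Groth.Agent.H25EssDim

/-- The map of fields underlying a morphism of spectra. -/
noncomputable def fld {F Ω : Type u} [Field F] [Field Ω] (w : Spec (CommRingCat.of Ω) ⟶ Spec (CommRingCat.of F)) :
    F →+* Ω := (Spec.preimage w).hom

theorem spec_fld {F Ω : Type u} [Field F] [Field Ω] (w : Spec (CommRingCat.of Ω) ⟶ Spec (CommRingCat.of F)) :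
    Spec.map (CommRingCat.ofHom (fld w)) = w := Spec.map_preimage w

theorem fld_comp {F K Ω : Type u} [Field F] [Field K] [Field Ω] (a : Spec (CommRingCat.of Ω) ⟶ Spec (CommRingCat.of K))
    (b : Spec (CommRingCat.of K) ⟶ Spec (CommRingCat.of F)) : fld (a ≫ b) = (fld a).comp (fld b) := by
  simp only [fld, Spec.preimage_comp]; rfl

theorem fld_spec {F Ω : Type u} [Field F] [Field Ω] (φ : F →+* Ω) :
    fld (Spec.map (CommRingCat.ofHom φ)) = φ := by
  simp only [fld, Spec.preimage_map, CommRingCat.hom_ofHom]

/-- The residue fields of a scheme étale over a field are algebraic over it. -/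
theorem isAlgebraic_residue {K : Type u} [Field K] {V : Scheme.{u}} (β : V ⟶ Spec (CommRingCat.of K)) [Etale β]
    (v : V) :
    @Algebra.IsAlgebraic K (V.residueField v) _ _ (fld (V.fromSpecResidueField v ≫ β)).toAlgebra := by
  haveI : LocallyQuasiFinite β := Groth.Agent.H13AlgSp.locallyQuasiFinite_of_etale β
  haveI := Groth.Agent.H13AlgSp.discreteTopology_of_lqf_to_field β
  haveI : IsClosedImmersion (V.fromSpecResidueField v) :=
    { isClosedEmbedding := ⟨(V.fromSpecResidueField v).isEmbedding, isClosed_discrete _⟩ }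
  have h : LocallyOfFiniteType (Spec.map (CommRingCat.ofHom (fld (V.fromSpecResidueField v ≫ β)))) := by
    rw [spec_fld]; infer_instance
  have h2 : (fld (V.fromSpecResidueField v ≫ β)).FiniteType :=
    (HasRingHomProperty.Spec_iff (P := @LocallyOfFiniteType)).1 h
  letI : Algebra K (V.residueField v) := (fld (V.fromSpecResidueField v ≫ β)).toAlgebra
  haveI : Algebra.FiniteType K (V.residueField v) := h2
  haveI : Module.Finite K (V.residueField v) := finite_of_finite_type_of_isJacobsonRing K (V.residueField v)
  exact Algebra.IsAlgebraic.of_finite K (V.residueField v)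

/-- Transcendence degree of a residue field in terms of the fibre dimension of an étale chart. -/
theorem trdeg_residue_le {k K : Type u} [Field k] [Field K] [Algebra k K] {U V : Scheme.{u}} (h : U ⟶ V)
    [LocallyOfFiniteType h] (β : V ⟶ Spec (CommRingCat.of K)) [Etale β] (u : U) (d : ℕ)
    (hd : FlatMor.fibreDimAt h u ≤ (d : WithBot ℕ∞)) :
    Cardinal.toENat (@Algebra.trdeg k (U.residueField u) _ _
      ((fld (U.fromSpecResidueField u ≫ h ≫ β)).comp (algebraMap k K)).toAlgebra) ≤
      Cardinal.toENat (Algebra.trdeg k K) + d := by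
  have hu : h.fiberι (h u) (h.asFiber u) = u := h.fiberι_asFiber u
  obtain ⟨s, hs, htr⟩ := Groth.Agent.H8Props.FieldDim.exists_trdeg_fiber h (h.asFiber u)
  have hsd : (s : WithBot ℕ∞) ≤ (d : WithBot ℕ∞) := by
    rw [← hs]
    refine le_trans ?_ hd
    haveI := Groth.Agent.H8Props.FieldDim.locallyOfFiniteType_fiberToSpec h (h u)
    rw [FlatMor.fibreDimAt, Groth.Agent.H8Props.FieldDim.localDim_eq (h.fiberToSpecResidueField (h u))]
    exact le_iSup_of_le ⟨h.asFiber u, specializes_rfl⟩ le_rfl
  have hsd' : s ≤ d := by exact_mod_cast hsd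
  rw [hu] at htr
  let φ := fld (U.fromSpecResidueField u ≫ h ≫ β)
  let ψ := fld (V.fromSpecResidueField (h u) ≫ β)
  let ρ := (h.residueFieldMap u).hom
  have hφ : φ = ρ.comp ψ := by
    have e : U.fromSpecResidueField u ≫ h ≫ β =
        Spec.map (CommRingCat.ofHom ρ) ≫ V.fromSpecResidueField (h u) ≫ β :=
      (h.SpecMap_residueFieldMap_fromSpecResidueField_assoc u β).symm
    show fld _ = _
    rw [e, fld_comp, fld_spec]
  letI aK : Algebra K (V.residueField (h u)) := ψ.toAlgebra
  letI akV : Algebra k (V.residueField (h u)) := (ψ.comp (algebraMap k K)).toAlgebra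
  haveI : IsScalarTower k K (V.residueField (h u)) := .of_algebraMap_eq fun _ => rfl
  letI aVU : Algebra (V.residueField (h u)) (U.residueField u) := ρ.toAlgebra
  letI akU : Algebra k (U.residueField u) := (φ.comp (algebraMap k K)).toAlgebra
  haveI : IsScalarTower k (V.residueField (h u)) (U.residueField u) := .of_algebraMap_eq fun x => by
    show φ _ = ρ (ψ _); rw [hφ]; rfl
  haveI : FaithfulSMul k (V.residueField (h u)) :=
    (faithfulSMul_iff_algebraMap_injective _ _).mpr (algebraMap k (V.residueField (h u))).injective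
  haveI : FaithfulSMul k K :=
    (faithfulSMul_iff_algebraMap_injective _ _).mpr (algebraMap k K).injective
  haveI : FaithfulSMul (V.residueField (h u)) (U.residueField u) :=
    (faithfulSMul_iff_algebraMap_injective _ _).mpr ρ.injective
  haveI : FaithfulSMul K (V.residueField (h u)) :=
    (faithfulSMul_iff_algebraMap_injective _ _).mpr ψ.injective
  haveI : Algebra.IsAlgebraic K (V.residueField (h u)) := isAlgebraic_residue β (h u)
  have h0 : Algebra.trdeg K (V.residueField (h u)) = 0 := trdeg_eq_zero
  have h1 := trdeg_add_eq k K (A := V.residueField (h u))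
  have h2 := trdeg_add_eq k (V.residueField (h u)) (A := U.residueField u)
  rw [h0, add_zero] at h1
  show Cardinal.toENat (Algebra.trdeg k (U.residueField u)) ≤ _
  rw [← h2, map_add, h1]
  refine add_le_add le_rfl ?_
  rw [show Algebra.trdeg (V.residueField (h u)) (U.residueField u) = (s : Cardinal) from htr, Cardinal.toENat_nat]
  exact_mod_cast hsd'

variable {k : Type u} [Field k]

/-- A section of a space of bounded relative dimension over a field descends to a field of bounded transcendence
degree. -/
theorem exists_descend {K L : Type u} [Field K] [Algebra k K] [Field L] [Algebra k L]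
    {Z : Sp (Spec (CommRingCat.of k))} (hZ : IsAlgSpace Z) (g : Z ⟶ (yon _).obj (SGA7.pt (K := k) K))
    (hft : LocP @LocallyOfFiniteType g) (hqs : IsQuasiSeparatedMor g) (d : ℕ) (hd : CurvSt.RelDimLE d g)
    (s : Z.obj.obj (op (SGA7.pt (K := k) L))) :
    ∃ (E : IntermediateField k L) (s₀ : Z.obj.obj (op (SGA7.pt (K := k) E))),
      Z.obj.map (EssDim.resPt E.val).op s₀ = s ∧
        Cardinal.toENat (Algebra.trdeg k E) ≤ Cardinal.toENat (Algebra.trdeg k K) + d := by
  let q : FieldPt Z := ⟨L, (SGA7.pt (K := k) L).hom, s⟩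
  have hqsY : IsQuasiSeparatedSp ((yon (Spec (CommRingCat.of k))).obj (SGA7.pt (K := k) K)) :=
    H12AlgSp.isQuasiSeparatedSp_yon (inferInstanceAs (QuasiSeparatedSpace ↥(Spec (CommRingCat.of K))))
  obtain ⟨p, hp, hm, -⟩ := H12AlgSp.isDecent_of_isQuasiSeparatedSp hZ
    (H12AlgSp.isQuasiSeparatedSp_of_mor hqs hqsY) (Points.mk q)
  -- the point `s` factors through the monomorphism
  have hfac : ∃ c : q.pt ⟶ p.pt, Z.obj.map c.op p.val = s := by
    obtain ⟨Ω, iΩ, w, a, b, hab⟩ := Points.mk_eq_mk_iff.1 hp
    have hr : Representable p.toHom := Functor.relativelyRepresentable.of_diag hZ.diag p.toHom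
    have sq := hr.isPullback q.toHom
    haveI := H13AlgSp.mono_of_sq sq.flip
    haveI : Mono (hr.snd q.toHom) := (yon (Spec (CommRingCat.of k))).mono_of_mono_map inferInstance
    haveI : Mono (hr.snd q.toHom).left := by
      have := (Over.forget (Spec (CommRingCat.of k))).map_mono (hr.snd q.toHom)
      exact this
    have e : (yon _).map a ≫ p.toHom = (yon _).map b ≫ q.toHom := by
      apply (J (Spec (CommRingCat.of k))).uliftYonedaEquiv.injective
      rw [GrothendieckTopology.uliftYonedaEquiv_comp, GrothendieckTopology.uliftYonedaEquiv_comp,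
        GrothendieckTopology.uliftYonedaEquiv_uliftYoneda_map, GrothendieckTopology.uliftYonedaEquiv_uliftYoneda_map,
        FieldPt.toHom_app, FieldPt.toHom_app]
      exact hab
    obtain ⟨l, -⟩ : ∃ l : (yon _).obj (Over.mk w) ⟶ (yon _).obj (hr.pullback q.toHom), True :=
      ⟨sq.lift ((yon _).map a) ((yon _).map b) e, trivial⟩
    obtain ⟨l', -⟩ := (yon _).map_surjective l
    haveI : Nonempty (hr.pullback q.toHom).left := ⟨l'.left (IsLocalRing.closedPoint Ω)⟩
    haveI := H13AlgSp.isIso_of_mono_nonempty (K := L) (hr.snd q.toHom).left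
    haveI : IsIso ((Over.forget (Spec (CommRingCat.of k))).map (hr.snd q.toHom)) :=
      inferInstanceAs (IsIso (hr.snd q.toHom).left)
    haveI : IsIso (hr.snd q.toHom) := isIso_of_reflects_iso _ (Over.forget (Spec (CommRingCat.of k)))
    obtain ⟨c₀, hc₀⟩ := (yon _).map_surjective (hr.fst q.toHom)
    refine ⟨inv (hr.snd q.toHom) ≫ c₀, ?_⟩
    have h2 : (yon _).map (inv (hr.snd q.toHom) ≫ c₀) ≫ p.toHom = q.toHom := by
      rw [Functor.map_comp, Category.assoc, hc₀, sq.w, ← Category.assoc, ← Functor.map_comp, IsIso.inv_hom_id,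
        CategoryTheory.Functor.map_id, Category.id_comp]
    have h3 := congrArg (J (Spec (CommRingCat.of k))).uliftYonedaEquiv h2
    rw [GrothendieckTopology.uliftYonedaEquiv_comp, GrothendieckTopology.uliftYonedaEquiv_uliftYoneda_map,
      FieldPt.toHom_app, FieldPt.uliftYonedaEquiv_toHom] at h3
    exact h3
  obtain ⟨c, hc⟩ := hfac
  -- the chart at the point
  obtain ⟨U, V, a, b, h, u, ha, hb, hsq, hu, hdim⟩ := hd (Points.mk p)
  haveI : LocallyOfFiniteType h.left := hft a b h ha hb hsq
  obtain ⟨β, hβ⟩ := (yon _).map_surjective b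
  haveI : Etale β.left := H13AlgSp.etale_left_of_repWith (hβ ▸ hb)
  obtain ⟨cu, hcu, -, -⟩ := H13AlgSp.exists_residue_factor hZ p ha u hu
  -- `k`-algebra structures
  letI akκ : Algebra k p.K := (fld p.str).toAlgebra
  letI akU : Algebra k (U.left.residueField u) :=
    ((fld (U.left.fromSpecResidueField u ≫ h.left ≫ β.left)).comp (algebraMap k K)).toAlgebra
  let cu' : Spec (CommRingCat.of (U.left.residueField u)) ⟶ Spec (CommRingCat.of p.K) := cu.left
  have hk : Spec.map (CommRingCat.ofHom (algebraMap k K)) = (SGA7.pt (K := k) K).hom := rfl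
  have hkU : (algebraMap k (U.left.residueField u)) = fld (U.left.fromSpecResidueField u ≫ U.hom) := by
    show (fld _).comp (algebraMap k K) = _
    rw [← fld_spec (algebraMap k K), ← fld_comp]
    congr 1
    rw [hk, Category.assoc, Category.assoc, Over.w β, Over.w h]
  let ι₁ : p.K →ₐ[k] U.left.residueField u :=
    { fld cu' with
      commutes' := fun x => by
        show ((fld cu').comp (fld p.str)) x = _
        rw [← fld_comp, hkU]
        exact congrArg (fun w => fld w x) (Over.w cu) }
  have hκ : Cardinal.toENat (Algebra.trdeg k p.K) ≤ Cardinal.toENat (Algebra.trdeg k K) + d :=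
    le_trans (OrderHomClass.mono Cardinal.toENat (trdeg_le_of_injective ι₁ ι₁.toRingHom.injective))
      (trdeg_residue_le h.left β.left u d hdim)
  let c' : Spec (CommRingCat.of L) ⟶ Spec (CommRingCat.of p.K) := c.left
  let ι₂ : p.K →ₐ[k] L :=
    { fld c' with
      commutes' := fun x => by
        show ((fld c').comp (fld p.str)) x = _
        rw [← fld_comp, ← fld_spec (algebraMap k L)]
        exact congrArg (fun w => fld w x) (Over.w c) }
  let eE : p.K ≃ₐ[k] ι₂.fieldRange := AlgEquiv.ofInjectiveField ι₂
  let j : SGA7.pt (K := k) ι₂.fieldRange ⟶ p.pt :=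
    Over.homMk (Spec.map (CommRingCat.ofHom eE.toAlgHom.toRingHom)) (by
      show Spec.map _ ≫ p.str = Spec.map _
      rw [← spec_fld p.str, ← Spec.map_comp]
      exact congrArg Spec.map (CommRingCat.hom_ext (RingHom.ext fun x => eE.commutes x)))
  refine ⟨ι₂.fieldRange, Z.obj.map j.op p.val, ?_, ?_⟩
  · have e : EssDim.resPt ι₂.fieldRange.val ≫ j = c := by
      refine Over.OverMorphism.ext ?_
      show Spec.map _ ≫ Spec.map _ = c'
      rw [← Spec.map_comp, ← spec_fld c']
      exact congrArg Spec.map (CommRingCat.hom_ext (RingHom.ext fun x => rfl))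
    rw [← FunctorToTypes.map_comp_apply, ← op_comp, e]
    exact hc
  · rw [← eE.trdeg_eq]; exact hκ

end Groth.Agent.H25EssDim
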